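import Groth.Agent.TanHilbLib.Lin
import Groth.Agent.CurveLib.SmulPow
import Groth.Agent.DevLib.Closed
import Groth.Agent.QCohLib.Coherent
import Groth.Agent.BCLib.Gamma
import Groth.Agent.S0002
import Groth.Agent.S9524
import Groth.Prelude.Def_DCoh4

/-! The tangent space of the local Hilbert functor inside the global sections of the normal sheaf. -/

set_option autoImplicit false
set_option backward.isDefEq.respectTransparency false
set_option backward.isDefEq.respectTransparency.types false
set_option linter.style.haveILetI false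

universe u

open CategoryTheory CategoryTheory.Limits AlgebraicGeometry TopologicalSpace Opposite ArtFun ArtFun.Art

noncomputable section

namespace Groth.Agent.TanHilbLib

variable {k : Type u} [Field k] {Y Z : Scheme.{u}} (y : Y ⟶ specPt k) (i : Z ⟶ Y)

theorem isCoh_conormal [IsLocallyNoetherian Y] [IsLocallyNoetherian Z] : Coh.IsCoh (Omega.conormal i) := by
  haveI : Mono (ClSub.idealModι i.ker) := by unfold ClSub.idealModι; infer_instance
  have h : Coh.IsCoh (ClSub.idealMod i.ker) :=
    QCohLib.isCoh_of_mono (ClSub.idealModι i.ker) (DevLib.isCoh_structureModule Y)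
      (OmegaAffLib.isQCoh_idealMod i.ker)
  exact PullbackMod.isCoh_pullback i _ h

/-- The two internal Homs agree. -/
def normalIso [DCoh.HasSheafHom (Omega.conormal i)] :
    normal i ≅ (DCoh.sheafHom (Omega.conormal i)).obj (Coh.structureModule Z) :=
  haveI := hasHom (Omega.conormal i)
  (Adjunction.rightAdjointUniq (ModSite.sheafHomAdj (O := Z.sheaf) (Omega.conormal i))
    ((DCoh.sheafHomAdj (Omega.conormal i)).ofNatIsoLeft
      (ModTensor.tensorSymm Z.sheaf (Omega.conormal i)).symm)).app (Coh.structureModule Z)

variable [Z.Over (Spec (CommRingCat.of k))] (hz : i ≫ y = Z ↘ Spec (CommRingCat.of k))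

/-- Global normal vectors as cohomology classes. -/
def toH0 [DCoh.HasSheafHom (Omega.conormal i)] :
    Γ(normal i, ⊤) ≃+ Coh.HH Z ((DCoh.sheafHom (Omega.conormal i)).obj (Coh.structureModule Z)) 0 :=
  (CategoryTheory.Iso.addCommGroupIsoToAddEquiv
      ((Scheme.Modules.toPresheaf Z ⋙ (evaluation _ _).obj (op (⊤ : Z.Opens))).mapIso (normalIso i))).trans
    (CurveLib.secOf _).symm

include hz in
theorem toH0_smul [DCoh.HasSheafHom (Omega.conormal i)] (c : k) (h : Γ(normal i, ⊤)) :
    toH0 i (scal y i c • h) = c • toH0 i h := by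
  apply (CurveLib.secOf _).injective
  show CurveLib.secOf _ ((CurveLib.secOf _).symm _) = _
  rw [AddEquiv.apply_symm_apply, CurveLib.secOf_smul]
  show _ = _ • CurveLib.secOf _ ((CurveLib.secOf _).symm _)
  rw [AddEquiv.apply_symm_apply]
  refine (Scheme.Modules.Hom.app_smul (normalIso i).hom (scal y i c) h).trans ?_
  rw [scal, hz]
  rfl

variable [IsClosedImmersion i] [TangentStr (localHilb Y y i.ker)]

/-- The tangent space maps to the global sections of the normal sheaf. -/
def tanH0 [DCoh.HasSheafHom (Omega.conormal i)] :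
    TangentSpace (localHilb Y y i.ker) →ₗ[k]
      Coh.HH Z ((DCoh.sheafHom (Omega.conormal i)).obj (Coh.structureModule Z)) 0 where
  toFun s := toH0 i (tan y i s)
  map_add' s t := by rw [tan_add, map_add]
  map_smul' c s := by rw [tan_smul, toH0_smul y i hz]; rfl

include hz in
theorem tanH0_injective [DCoh.HasSheafHom (Omega.conormal i)] : Function.Injective (tanH0 y i hz) :=
  (toH0 i).injective.comp (tan_injective y i)

include hz in
theorem hfin [IsLocallyNoetherian Y] [IsProper (Z ↘ Spec (CommRingCat.of k))] :
    Hfin (localHilb Y y i.ker) := by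
  haveI : IsLocallyNoetherian Z := LocallyOfFiniteType.isLocallyNoetherian (Z ↘ Spec (CommRingCat.of k))
  haveI : DCoh.HasSheafHom (Omega.conormal i) :=
    haveI := hasHom (Omega.conormal i)
    ⟨_, ⟨(ModSite.sheafHomAdj (O := Z.sheaf) (Omega.conormal i)).ofNatIsoLeft
      (ModTensor.tensorSymm Z.sheaf (Omega.conormal i))⟩⟩
  haveI : Module.Finite k (Coh.HH Z ((DCoh.sheafHom (Omega.conormal i)).obj (Coh.structureModule Z)) 0) :=
    S0002.result k Z _ (S9524.result Z (Omega.conormal i) (Coh.structureModule Z) (isCoh_conormal i)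
      (DevLib.isCoh_structureModule Z)) 0
  exact Module.Finite.of_injective (tanH0 y i hz) (tanH0_injective y i hz)

end Groth.Agent.TanHilbLib
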