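import Groth.Agent.TanHilbLib.Alg
import Groth.Agent.ArtFunLib.Basic

/-! Flatness over the dual numbers. -/

set_option autoImplicit false
set_option backward.isDefEq.respectTransparency false
set_option backward.isDefEq.respectTransparency.types false
set_option linter.style.haveILetI false

universe u

open CategoryTheory ArtFun ArtFun.Art IsLocalRing
open scoped TensorProduct

noncomputable section

namespace Groth.Agent.TanHilbLib

open LocHilbGlueLib

variable {k : Type u} [Field k] {R : Type u} [CommRing R] [Algebra k R]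

theorem eps_mem : (eps (k := k)) ∈ maximalIdeal (dual k k).carrier := (mem_maximalIdeal_iff _ _).2 res_eps

theorem mul_eps {b : (dual k k).carrier} (hb : b ∈ maximalIdeal (dual k k).carrier) : b * eps = 0 := by
  rw [eq_res_sndL b, (mem_maximalIdeal_iff _ b).1 hb, map_zero, zero_add, smul_mul_assoc]
  show sndL b • ((DualNumber.eps : DualNumber k) * DualNumber.eps) = 0
  rw [DualNumber.eps_mul_eps, smul_zero]

theorem span_eps : Ideal.span {(eps (k := k))} = maximalIdeal (dual k k).carrier := by
  refine le_antisymm ((Ideal.span_singleton_le_iff_mem _).2 eps_mem) fun b hb => ?_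
  rw [eq_res_sndL b, (mem_maximalIdeal_iff _ b).1 hb, map_zero, zero_add, Algebra.smul_def]
  exact Ideal.mul_mem_left _ _ (Ideal.mem_span_singleton_self _)

theorem eps_tmul_eq (c : R) :
    (eps (k := k)) ⊗ₜ[k] c = (eps (k := k)) • ((1 : (dual k k).carrier) ⊗ₜ[k] c) := by
  rw [TensorProduct.smul_tmul', smul_eq_mul, mul_one]

/-- An ideal of `k[ε] ⊗ R` has flat quotient if its `ε`-part is no bigger than its reduction. -/
theorem flat_of_l1 (J : Ideal ((dual k k).carrier ⊗[k] R))
    (hcap : ∀ w ∈ J, l0 R (dual k k) w = 0 → l1 R w ∈ J.map (l0 R (dual k k))) :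
    Module.Flat (dual k k).carrier (((dual k k).carrier ⊗[k] R) ⧸ J) := by
  haveI : (Ideal.span {(eps (k := k))}).IsMaximal := span_eps (k := k) ▸ inferInstance
  letI : Field ((dual k k).carrier ⧸ Ideal.span {(eps (k := k))}) := Ideal.Quotient.field _
  let M : Submodule (dual k k).carrier ((dual k k).carrier ⊗[k] R) :=
    Ideal.span {(eps (k := k))} • ⊤
  let N : Submodule (dual k k).carrier ((dual k k).carrier ⊗[k] R) := J.restrictScalars _ ⊔ M
  have htors : Module.IsTorsionBySet (dual k k).carrier (((dual k k).carrier ⊗[k] R) ⧸ N)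
      (Ideal.span {(eps (k := k))}) := by
    rintro z ⟨a, ha⟩
    obtain ⟨v, rfl⟩ := Submodule.Quotient.mk_surjective N z
    exact (Submodule.Quotient.mk_eq_zero N).2 (Submodule.mem_sup_right (Submodule.smul_mem_smul ha Submodule.mem_top))
  letI : Module ((dual k k).carrier ⧸ Ideal.span {(eps (k := k))}) (((dual k k).carrier ⊗[k] R) ⧸ N) := htors.module
  haveI : IsScalarTower (dual k k).carrier ((dual k k).carrier ⧸ Ideal.span {(eps (k := k))})
      (((dual k k).carrier ⊗[k] R) ⧸ N) := htors.isScalarTower
  haveI : Module.Free k R := Module.Free.of_divisionRing k R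
  haveI : Module.Flat (dual k k).carrier ((dual k k).carrier ⊗[k] R) := inferInstance
  refine HilbObsLib.flat_of_lift (eps (k := k)) (fun b hb => mul_eps hb) N.mkQ N.mkQ_surjective
    (J.restrictScalars _) eps_mem (ArtFunLib.isNilpotent_maximalIdeal _) ?_ ?_ ?_
  · intro n hn
    rw [Submodule.ker_mkQ] at hn
    obtain ⟨a, ha, b, hb, rfl⟩ := Submodule.mem_sup.1 hn
    obtain ⟨v, rfl⟩ : ∃ v, b = (eps (k := k)) • v := by
      refine Submodule.smul_induction_on hb (fun c hc z _ => ?_) (fun a b ha hb => ?_)
      · obtain ⟨d, rfl⟩ := Ideal.mem_span_singleton'.1 hc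
        exact ⟨d • z, by rw [smul_smul, mul_comm]⟩
      · obtain ⟨v, rfl⟩ := ha
        obtain ⟨w, rfl⟩ := hb
        exact ⟨v + w, (smul_add _ _ _).symm⟩
    exact ⟨v, by rw [add_sub_cancel_right]; exact ha⟩
  · intro n hn
    rw [Submodule.ker_mkQ]
    exact Submodule.mem_sup_left hn
  · intro v hv
    have h0 := hcap _ hv (by rw [eps_smul, l0_eps_tmul])
    rw [eps_smul, l1_eps_tmul] at h0
    obtain ⟨v', hv', e⟩ := (Ideal.mem_map_iff_of_surjective (l0 R (dual k k)) (l0_surjective _)).1 h0
    refine Submodule.mem_sup_left ?_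
    rw [Submodule.ker_mkQ, ← sub_add_cancel v v', decomp (v - v'), map_sub, e, sub_self, TensorProduct.tmul_zero,
      zero_add, eps_tmul_eq]
    exact add_mem (Submodule.mem_sup_right (Submodule.smul_mem_smul (Ideal.mem_span_singleton_self _) Submodule.mem_top))
      (Submodule.mem_sup_left hv')

end Groth.Agent.TanHilbLib
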