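import Groth.Agent.TanHilbLib.Tan
import Groth.Agent.TanHilbLib.Flat

/-! Every normal vector comes from a first order deformation. -/

set_option autoImplicit false
set_option backward.isDefEq.respectTransparency false
set_option backward.isDefEq.respectTransparency.types false
set_option linter.style.haveILetI false

universe u

open CategoryTheory CategoryTheory.Limits AlgebraicGeometry TopologicalSpace Opposite ArtFun ArtFun.Art
open scoped TensorProduct

noncomputable section

namespace Groth.Agent.TanHilbLib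

open LocHilbGlueLib

variable {k : Type u} [Field k] {Y Z : Scheme.{u}} (y : Y ⟶ specPt k) (i : Z ⟶ Y)

theorem surjective_specRes (A : Art k k) : Function.Surjective (specRes A) := fun p => by
  refine ⟨IsLocalRing.closedPoint k, ?_⟩
  have key : ∀ q : PrimeSpectrum A, q.asIdeal = IsLocalRing.maximalIdeal A := fun q =>
    (IsLocalRing.eq_maximalIdeal inferInstance)
  exact PrimeSpectrum.ext ((key _).trans (key p).symm)

theorem surjective_XAincl (A : Art k k) : Function.Surjective (XAincl y A) :=
  haveI : Surjective (specRes A) := ⟨surjective_specRes A⟩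
  (MorphismProperty.of_isPullback (P := @Surjective) (isPullback_XAincl (x := y) A).flip inferInstance).surj

theorem UA_preimage_XAincl (A : Art k k) (U : (XA y A).Opens) : UA y A (XAincl y A ⁻¹ᵁ U) = U := by
  ext z
  obtain ⟨w, rfl⟩ := surjective_XAincl y A z
  show XAincl y A ((XAincl y A ≫ pullback.fst y (specOver A)) w) ∈ U ↔ XAincl y A w ∈ U
  rw [XAincl_fst]
  rfl

instance (A : Art k k) : IsClosedImmersion (XAincl y A) :=
  haveI : IsClosedImmersion (specRes A) := IsClosedImmersion.spec_of_surjective _ A.res_surjective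
  MorphismProperty.of_isPullback (isPullback_XAincl (x := y) A).flip inferInstance

variable (h : Γ(normal i, ⊤))

/-- Membership in the deformation defined by a normal vector. -/
def InTan (V : Y.Opens) (w : letI := algV y V; (dual k k).carrier ⊗[k] Γ(Y, V)) : Prop :=
  letI := algV y V
  ∃ m : Γ(ClSub.idealMod i.ker, V), OmegaSh.idealSect i.ker V m = l0 Γ(Y, V) (dual k k) w ∧
    val i (resN i V h) m = i.app V (l1 Γ(Y, V) w)

theorem val_zero_right {V : Y.Opens} (h : Γ(normal i, i ⁻¹ᵁ V)) : val i h 0 = 0 := by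
  haveI := hasHom (Omega.conormal i)
  show OmegaSh.fnSect Z _ _ = _
  rw [map_zero (cls i V)]
  exact (congrArg (OmegaSh.fnSect Z _) (map_zero (StalkHomLib.psi (Omega.conormal i)
    (Coh.structureModule Z) (i ⁻¹ᵁ V) h))).trans (map_zero _)

theorem val_add_right {V : Y.Opens} (h : Γ(normal i, i ⁻¹ᵁ V)) (m m' : Γ(ClSub.idealMod i.ker, V)) :
    val i h (m + m') = val i h m + val i h m' := by
  haveI := hasHom (Omega.conormal i)
  show OmegaSh.fnSect Z _ _ = _
  rw [map_add (cls i V)]
  exact (congrArg (OmegaSh.fnSect Z _) (StalkHomLib.evS_add_right _ _ h (cls i V m) (cls i V m'))).trans (map_add _ _ _)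

theorem val_smul_right {V : Y.Opens} (h : Γ(normal i, i ⁻¹ᵁ V)) (r : Γ(Y, V)) (m : Γ(ClSub.idealMod i.ker, V)) :
    val i h (r • m) = i.app V r * val i h m := by
  haveI := hasHom (Omega.conormal i)
  show OmegaSh.fnSect Z _ _ = _
  rw [cls_smul]
  exact congrArg (OmegaSh.fnSect Z _) (StalkHomLib.evS_smul_right _ _ (i.app V r) h (cls i V m))

/-- The ideal in coordinates defined by a normal vector. -/
def idealT (V : Y.Opens) : letI := algV y V; Ideal ((dual k k).carrier ⊗[k] Γ(Y, V)) :=
  letI := algV y V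
  { carrier := {w | InTan y i h V w}
    zero_mem' := ⟨0, by rw [map_zero, map_zero], by rw [val_zero_right, map_zero, map_zero]⟩
    add_mem' := fun {a b} ha hb => by
      obtain ⟨m, hm, hv⟩ := ha
      obtain ⟨m', hm', hv'⟩ := hb
      exact ⟨m + m', by rw [map_add, map_add, hm, hm'], by rw [val_add_right, hv, hv', map_add, map_add]⟩
    smul_mem' := fun r w hw => by
      obtain ⟨m, hm, hv⟩ := hw
      refine ⟨l0 Γ(Y, V) (dual k k) r • m, ?_, ?_⟩
      · rw [OmegaAffLib.idealSect_smul, hm, smul_eq_mul, map_mul]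
      · rw [val_smul_right, hv, smul_eq_mul, l1_mul, map_add, map_mul, map_mul,
          show i.app V (l0 Γ(Y, V) (dual k k) w) = 0 from hm ▸ ConormalLib.app_idealSect i V m, mul_zero, add_zero] }

variable [IsClosedImmersion i]

theorem map_l0_idealT {V : Y.Opens} (hV : IsAffineOpen V) :
    letI := algV y V
    (idealT y i h V).map (l0 Γ(Y, V) (dual k k)) = RingHom.ker (i.app V).hom := by
  letI := algV y V
  refine le_antisymm (Ideal.map_le_iff_le_comap.2 fun w ⟨m, hm, _⟩ => ?_) fun a ha => ?_
  · rw [Ideal.mem_comap, RingHom.mem_ker]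
    exact hm ▸ ConormalLib.app_idealSect i V m
  · obtain ⟨m, rfl⟩ := ConormalLib.exists_idealSect_eq i V a ha
    obtain ⟨b, hb⟩ := (chart i hV).2 (val i (resN i V h) m)
    refine (Ideal.mem_map_iff_of_surjective (l0 Γ(Y, V) (dual k k)) (l0_surjective _)).2
      ⟨1 ⊗ₜ OmegaSh.idealSect i.ker V m + eps ⊗ₜ b, ⟨m, ?_, ?_⟩, ?_⟩
    · rw [map_add, l0_tmul, l0_eps_tmul, map_one, one_smul, add_zero]
    · rw [map_add, l1_eps_tmul, l1_tmul, show sndL (1 : (dual k k).carrier) = (0 : k) from rfl, zero_smul, zero_add, hb]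
    · rw [map_add, l0_tmul, l0_eps_tmul, map_one, one_smul, add_zero]

omit [IsClosedImmersion i] in
theorem app_l1_of_l0_eq_zero {V : Y.Opens} :
    letI := algV y V
    ∀ w ∈ idealT y i h V, l0 Γ(Y, V) (dual k k) w = 0 → i.app V (l1 Γ(Y, V) w) = 0 := by
  letI := algV y V
  intro w ⟨m, hm, hv⟩ e
  rw [← hv, show m = 0 from OmegaAffLib.idealSect_injective i.ker V (by rw [hm, e, map_zero]), val_zero_right]

omit [IsClosedImmersion i] in
theorem resT_idealT {V V' : Y.Opens} (hle : V' ≤ V) :
    letI := algV y V; letI := algV y V'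
    (idealT y i h V).map (resT y (dual k k) hle) ≤ idealT y i h V' := by
  letI := algV y V; letI := algV y V'
  refine Ideal.map_le_iff_le_comap.2 fun w ⟨m, hm, hv⟩ => ⟨(ClSub.idealMod i.ker).presheaf.map (homOfLE hle).op m, ?_, ?_⟩
  · rw [ConormalLib.idealSect_res, hm, l0_resT]
  · rw [← resN_res i hle h, val_res, hv, l1_resT]
    exact (congrArg (fun f : Γ(Y, V) ⟶ Γ(Z, i ⁻¹ᵁ V') => f (l1 Γ(Y, V) w)) (i.naturality (homOfLE hle).op)).symm

theorem map_resT_idealT {V V' : Y.Opens} (hV : IsAffineOpen V) (hV' : IsAffineOpen V') (hle : V' ≤ V) :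
    letI := algV y V; letI := algV y V'
    (idealT y i h V).map (resT y (dual k k) hle) = idealT y i h V' := by
  letI := algV y V; letI := algV y V'
  set M := (idealT y i h V).map (resT y (dual k k) hle) with hMdef
  have hM : M.map (l0 Γ(Y, V') (dual k k)) = RingHom.ker (i.app V').hom := by
    have e : RingHom.ker (i.app V').hom = (RingHom.ker (i.app V).hom).map (Y.presheaf.map (homOfLE hle).op).hom := by
      rw [← Scheme.Hom.ker_apply i ⟨V, hV⟩, ← Scheme.Hom.ker_apply i ⟨V', hV'⟩]
      exact (i.ker.map_ideal (U := ⟨V', hV'⟩) (V := ⟨V, hV⟩) hle).symm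
    rw [e, ← map_l0_idealT y i h hV, hMdef, Ideal.map_mapₐ]
    show Ideal.map ((l0 Γ(Y, V') (dual k k)).comp (resT y (dual k k) hle)).toRingHom _ = _
    rw [show ((l0 Γ(Y, V') (dual k k)).comp (resT y (dual k k) hle)).toRingHom =
      (Y.presheaf.map (homOfLE hle).op).hom.comp (l0 Γ(Y, V) (dual k k)).toRingHom from
      RingHom.ext fun w => l0_resT y (dual k k) hle w, ← Ideal.map_map]
    rfl
  refine le_antisymm (resT_idealT y i h hle) fun w hw => ?_
  have h0 : l0 Γ(Y, V') (dual k k) w ∈ M.map (l0 Γ(Y, V') (dual k k)) := by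
    rw [hM, ← map_l0_idealT y i h hV']
    exact Ideal.mem_map_of_mem _ hw
  obtain ⟨v, hv, e⟩ := (Ideal.mem_map_iff_of_surjective (l0 Γ(Y, V') (dual k k)) (l0_surjective _)).1 h0
  have hc : l1 Γ(Y, V') (w - v) ∈ M.map (l0 Γ(Y, V') (dual k k)) := by
    rw [hM, RingHom.mem_ker]
    exact app_l1_of_l0_eq_zero y i h _ (sub_mem hw (resT_idealT y i h hle hv)) (by rw [map_sub, e, sub_self])
  have hd := decomp (w - v)
  rw [map_sub (l0 Γ(Y, V') (dual k k)), e, sub_self, TensorProduct.tmul_zero, zero_add] at hd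
  rw [← sub_add_cancel w v, hd]
  exact add_mem (eps_tmul_mem hc) hv

theorem flat_idealT {V : Y.Opens} (hV : IsAffineOpen V) :
    letI := algV y V
    Module.Flat (dual k k).carrier (((dual k k).carrier ⊗[k] Γ(Y, V)) ⧸ idealT y i h V) := by
  letI := algV y V
  refine flat_of_l1 _ fun w hw e => ?_
  rw [map_l0_idealT y i h hV]
  exact app_l1_of_l0_eq_zero y i h w hw e

/-- The chart of an affine open of the thickening. -/
def chartT (U : (XA y (dual k k)).affineOpens) : Y.affineOpens :=
  ⟨XAincl y (dual k k) ⁻¹ᵁ U.1, U.2.preimage (XAincl y (dual k k))⟩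

/-- Coordinates on an affine open of the thickening. -/
def coordT (V : Y.affineOpens) {W : (XA y (dual k k)).Opens} (hW : W ≤ UA y (dual k k) V.1) :
    letI := algV y V.1
    CommRingCat.of ((dual k k).carrier ⊗[k] Γ(Y, V.1)) ⟶ Γ(XA y (dual k k), W) :=
  theta y (dual k k) V.2 ≫ (XA y (dual k k)).presheaf.map (homOfLE hW).op

theorem map_coordT {V V' : Y.affineOpens} (hle : V'.1 ≤ V.1) {W : (XA y (dual k k)).Opens}
    (hW : W ≤ UA y (dual k k) V'.1) :
    (idealT y i h V.1).map (coordT y V (hW.trans (UA_mono y (dual k k) hle))).hom =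
      (idealT y i h V'.1).map (coordT y V' hW).hom := by
  letI := algV y V.1; letI := algV y V'.1
  rw [← map_resT_idealT y i h V.2 V'.2 hle]
  refine Eq.trans ?_ (Ideal.map_map (resT y (dual k k) hle).toRingHom (coordT y V' hW).hom).symm
  refine congrArg (fun f : CommRingCat.of ((dual k k).carrier ⊗[k] Γ(Y, V.1)) ⟶ Γ(XA y (dual k k), W) =>
    (idealT y i h V.1).map f.hom) (?_ : _ = CommRingCat.ofHom (resT y (dual k k) hle).toRingHom ≫ coordT y V' hW)
  rw [coordT, coordT, ← Category.assoc, ← theta_res y (dual k k) V.2 V'.2 hle, Category.assoc, ← Functor.map_comp]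
  rfl

/-- The deformation defined by a normal vector. -/
def sheafT : (XA y (dual k k)).IdealSheafData where
  ideal U := (idealT y i h (chartT y U).1).map (coordT y (chartT y U) (UA_preimage_XAincl y (dual k k) U.1).ge).hom
  map_ideal_basicOpen U f := by
    rw [Ideal.map_map, ← map_coordT y i h (V := chartT y U) (V' := chartT y ((XA y (dual k k)).affineBasicOpen f))
      ((XAincl y (dual k k)).preimage_mono ((XA y (dual k k)).basicOpen_le f))
      (UA_preimage_XAincl y (dual k k) _).ge]
    rw [← CommRingCat.hom_comp]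
    congr 2
    rw [coordT, coordT, Category.assoc, ← Functor.map_comp]
    rfl

theorem JV_sheafT {V : Y.Opens} (hV : IsAffineOpen V) :
    letI := algV y V
    JV y (dual k k) hV (sheafT y i h) = idealT y i h V := by
  letI := algV y V
  let U : (XA y (dual k k)).affineOpens := ⟨_, isAffineOpen_UA y (dual k k) hV⟩
  have e : (chartT y U).1 = V := by
    show XAincl y (dual k k) ⁻¹ᵁ (pullback.fst y (specOver (dual k k)) ⁻¹ᵁ V) = V
    rw [← Scheme.Hom.comp_preimage, XAincl_fst]
    rfl
  show ((idealT y i h (chartT y U).1).map (coordT y (chartT y U) _).hom).comap _ = _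
  rw [← map_coordT y i h (V := ⟨V, hV⟩) (V' := chartT y U) e.le (UA_preimage_XAincl y (dual k k) U.1).ge]
  have e2 : coordT y ⟨V, hV⟩ ((UA_preimage_XAincl y (dual k k) U.1).ge.trans (UA_mono y (dual k k) e.le)) =
      theta y (dual k k) hV := by
    show _ ≫ (XA y (dual k k)).presheaf.map _ = _
    exact (congrArg (_ ≫ ·) ((XA y (dual k k)).presheaf.map_id _)).trans (Category.comp_id _)
  rw [e2, Ideal.comap_map_of_bijective _ (theta_bijective y (dual k k) hV)]

theorem comap_sheafT : (sheafT y i h).comap (XAincl y (dual k k)) = i.ker := by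
  refine Scheme.IdealSheafData.ext (funext fun V => ?_)
  letI := algV y V.1
  rw [← map_l0_JV y (dual k k) rfl V, JV_sheafT y i h V.2, map_l0_idealT y i h V.2]
  exact (Scheme.Hom.ker_apply i V).symm

/-- The deformation as an element of the local Hilbert functor. -/
def defT : (localHilb Y y i.ker).obj (dual k k) :=
  ⟨sheafT y i h, (flatOver_iff y (dual k k) _).2 fun V hV => by
    letI := algV y V
    rw [JV_sheafT y i h hV]
    exact flat_idealT y i h hV, comap_sheafT y i h⟩

theorem tan_defT : tan y i (defT y i h) = h := by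
  refine eq_of_val i fun V hV m => ?_
  letI := algV y V
  obtain ⟨w, hw, e⟩ := exists_lift_sect y i (dual k k) (defT y i h) hV m
  rw [isTan_tan y i (defT y i h) V hV m w hw e]
  have hw' : w ∈ idealT y i h V := by rw [← JV_sheafT y i h hV]; exact hw
  obtain ⟨m', hm', hv⟩ := hw'
  rw [show m = m' from OmegaAffLib.idealSect_injective i.ker V (e.symm.trans hm'.symm), hv]

theorem tan_bijective : Function.Bijective (tan y i) :=
  ⟨tan_injective y i, fun h => ⟨defT y i h, tan_defT y i h⟩⟩

end Groth.Agent.TanHilbLib
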