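import Groth.Agent.TanHilbLib.Finite
import Groth.Agent.TanHilbLib.Surj

/-! The tangent space is the space of global normal vectors. -/

set_option autoImplicit false
set_option backward.isDefEq.respectTransparency false
set_option backward.isDefEq.respectTransparency.types false
set_option linter.style.haveILetI false

universe u

open CategoryTheory CategoryTheory.Limits AlgebraicGeometry ArtFun ArtFun.Art

noncomputable section

namespace Groth.Agent.TanHilbLib

variable {k : Type u} [Field k] {Y Z : Scheme.{u}} (y : Y ⟶ specPt k) (i : Z ⟶ Y)
  [Z.Over (Spec (CommRingCat.of k))] (hz : i ≫ y = Z ↘ Spec (CommRingCat.of k))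
  [IsClosedImmersion i] [DCoh.HasSheafHom (Omega.conormal i)]

include hz in
theorem nonempty_linearEquiv {J : Y.IdealSheafData} (hJ : i.ker = J) [TangentStr (localHilb Y y J)] :
    Nonempty (TangentSpace (localHilb Y y J) ≃ₗ[k]
      Coh.HH Z ((DCoh.sheafHom (Omega.conormal i)).obj (Coh.structureModule Z)) 0) := by
  subst hJ
  exact ⟨LinearEquiv.ofBijective (tanH0 y i hz) ((toH0 i).bijective.comp (tan_bijective y i))⟩

end Groth.Agent.TanHilbLib
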