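import Groth.Agent.TanHilbLib.Tan
import Groth.Prelude.Def_Coh

/-! Linearity of the map to normal vectors. -/

set_option autoImplicit false
set_option backward.isDefEq.respectTransparency false
set_option backward.isDefEq.respectTransparency.types false
set_option linter.style.haveILetI false

universe u

open CategoryTheory CategoryTheory.Limits AlgebraicGeometry TopologicalSpace Opposite ArtFun ArtFun.Art
open scoped TensorProduct

noncomputable section

namespace Groth.Agent.TanHilbLib

open LocHilbGlueLib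

variable {k : Type u} [Field k] {Y Z : Scheme.{u}} (y : Y ⟶ specPt k) (i : Z ⟶ Y)

/-- The scalars as global functions of the subscheme. -/
def scal : k →+* Γ(Z, ⊤) := Coh.toGlobal (A := k) (X := Z) (i ≫ y)

theorem app_algR (V : Y.Opens) (c : k) :
    i.app V (algR y V c) = Z.presheaf.map (homOfLE (le_top : i ⁻¹ᵁ V ≤ ⊤)).op (scal y i c) := by
  have h : algR y V ≫ i.app V =
      ((Scheme.ΓSpecIso (CommRingCat.of k)).inv ≫ (i ≫ y).appTop) ≫ Z.presheaf.map (homOfLE (le_top : i ⁻¹ᵁ V ≤ ⊤)).op := by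
    rw [algR, Category.assoc, Category.assoc]
    congr 1
    rw [Scheme.Hom.app_eq_appLE, Scheme.Hom.appLE_comp_appLE, Scheme.Hom.appTop, Scheme.Hom.app_eq_appLE,
      Scheme.Hom.appLE_map]
  exact congrArg (fun f : CommRingCat.of k ⟶ Γ(Z, i ⁻¹ᵁ V) => f c) h

theorem resN_add (V : Y.Opens) (h h' : Γ(normal i, ⊤)) : resN i V (h + h') = resN i V h + resN i V h' :=
  map_add ((normal i).presheaf.map _).hom h h'

theorem resN_smul (V : Y.Opens) (a : Γ(Z, ⊤)) (h : Γ(normal i, ⊤)) :
    resN i V (a • h) = Z.presheaf.map (homOfLE (le_top : i ⁻¹ᵁ V ≤ ⊤)).op a • resN i V h :=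
  (normal i).val.map_smul (homOfLE (le_top : i ⁻¹ᵁ V ≤ ⊤)).op a h

variable [IsClosedImmersion i]

theorem val_tan {s : (localHilb Y y i.ker).obj (dual k k)} {V : Y.Opens} (hV : IsAffineOpen V)
    (m : Γ(ClSub.idealMod i.ker, V)) (w : letI := algV y V; (dual k k).carrier ⊗[k] Γ(Y, V))
    (hw : letI := algV y V; w ∈ JV y (dual k k) hV s.1)
    (e : letI := algV y V; l0 Γ(Y, V) (dual k k) w = OmegaSh.idealSect i.ker V m) :
    letI := algV y V
    val i (resN i V (tan y i s)) m = i.app V (l1 Γ(Y, V) w) :=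
  isTan_tan y i s V hV m w hw e

theorem tmap_mem {A B : Art k k} (g : A ⟶ B) (t : (localHilb Y y i.ker).obj A) {V : Y.Opens} (hV : IsAffineOpen V) :
    letI := algV y V
    ∀ w ∈ JV y A hV t.1, tmap Γ(Y, V) g.toAlgHom w ∈ JV y B hV ((localHilb Y y i.ker).map g t).1 := by
  letI := algV y V
  intro w hw
  show _ ∈ JV y B hV (t.1.comap (XAmap y g))
  rw [JV_comap]
  exact Ideal.mem_map_of_mem _ hw

theorem tan_scale (c : k) (s : (localHilb Y y i.ker).obj (dual k k)) :
    tan y i ((localHilb Y y i.ker).map (scale c) s) = scal y i c • tan y i s := by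
  refine eq_of_val i fun V hV m => ?_
  letI := algV y V
  obtain ⟨w, hw, e⟩ := exists_lift_sect y i (dual k k) s hV m
  rw [resN_smul, val_smul_left, val_tan y i hV m w hw e,
    val_tan y i hV m (tmap Γ(Y, V) (scale c).toAlgHom w) (tmap_mem y i (scale c) s hV w hw) (by rw [l0_tmap, e]),
    l1_scale, Algebra.smul_def, map_mul]
  exact congrArg (· * _) (app_algR y i V c)

theorem tan_plus (z : (localHilb Y y i.ker).obj (dual2 k k)) :
    tan y i ((localHilb Y y i.ker).map plus z) =
      tan y i ((localHilb Y y i.ker).map pr₁ z) + tan y i ((localHilb Y y i.ker).map pr₂ z) := by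
  refine eq_of_val i fun V hV m => ?_
  letI := algV y V
  obtain ⟨w, hw, e⟩ := exists_lift_sect y i (dual2 k k) z hV m
  rw [resN_add, val_add_left,
    val_tan y i hV m (tmap Γ(Y, V) (plus (Λ := k) (k := k)).toAlgHom w) (tmap_mem y i plus z hV w hw) (by rw [l0_tmap, e]),
    val_tan y i hV m (tmap Γ(Y, V) (pr₁ (Λ := k) (k := k)).toAlgHom w) (tmap_mem y i pr₁ z hV w hw) (by rw [l0_tmap, e]),
    val_tan y i hV m (tmap Γ(Y, V) (pr₂ (Λ := k) (k := k)).toAlgHom w) (tmap_mem y i pr₂ z hV w hw) (by rw [l0_tmap, e]),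
    l1_plus, map_add]

theorem tan_smul [TangentStr (localHilb Y y i.ker)] (c : k) (s : TangentSpace (localHilb Y y i.ker)) :
    tan y i (c • s : TangentSpace (localHilb Y y i.ker)) = scal y i c • tan y i s := by
  rw [← tan_scale]
  exact congrArg (tan y i) (TangentStr.smul_eq c s)

theorem tan_add [TangentStr (localHilb Y y i.ker)] (s t : TangentSpace (localHilb Y y i.ker)) :
    tan y i (s + t : TangentSpace (localHilb Y y i.ker)) = tan y i s + tan y i t := by
  obtain ⟨z, h1, h2⟩ := (ArtFunLib.cmp_surjective_iff (isFibreProd_dual2 (Λ := k) (k := k))).1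
    (cmp_bijective y i.ker isFibreProd_dual2 isSmallExt_dual).2 s t ((h0 y i.ker).2.elim _ _)
  subst h1 h2
  rw [← tan_plus]
  exact congrArg (tan y i) (TangentStr.add_eq z)

end Groth.Agent.TanHilbLib
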