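import Groth.Agent.TanHilbLib.Equiv
import Groth.Agent.LocHilbGlueLib.Functor

/-! A local Hilbert functor without tangent vectors is trivial. -/

set_option autoImplicit false
set_option backward.isDefEq.respectTransparency false
set_option backward.isDefEq.respectTransparency.types false
set_option linter.style.haveILetI false

universe u

open CategoryTheory CategoryTheory.Limits AlgebraicGeometry ArtFun ArtFun.Art

noncomputable section

namespace Groth.Agent.TanHilbLib

open LocHilbGlueLib ArtFunLib

variable {k : Type u} [Field k] {Y Z : Scheme.{u}} (y : Y ⟶ specPt k)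

theorem subsingleton_obj (J : Y.IdealSheafData) (ht : Subsingleton ((localHilb Y y J).obj (dual k k)))
    (A : Art k k) : Subsingleton ((localHilb Y y J).obj A) := by
  have key : ∀ ⦃A B : Art k k⦄ (p : B ⟶ A), Function.Surjective p →
      Function.Injective ((localHilb Y y J).map p) := by
    intro A B p hp
    refine surjective_induction (P := fun A B p => Function.Injective ((localHilb Y y J).map p)) ?_ ?_ ?_ p hp
    · intro A B e _
      exact (map_bijective_of_isIso e).1
    · intro A B p hsm x x' e
      obtain ⟨-, t, ht0, htm, htk⟩ := (isSmallExt_iff p).mp hsm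
      obtain ⟨Q, p₁, p₂, hQ⟩ := exists_fibreProd p p hsm.1
      obtain ⟨δ, hδ, -⟩ := exists_diff ht0 htm htk hQ
      obtain ⟨d, hd1, hd2⟩ := exists_lift hQ (𝟙 B) (𝟙 B) rfl
      obtain ⟨z, hz1, hz2⟩ := (cmp_surjective_iff hQ).mp (cmp_bijective y J hQ hsm).2 x x' e
      have hz : z = (localHilb Y y J).map d x :=
        (cmp_injective_iff hδ).mp (cmp_bijective y J hδ isSmallExt_dual).1 _ _
          (by rw [hz1, map_map, hd1, map_id_apply]) (ht.elim _ _)
      rw [← hz2, hz, map_map, hd2, map_id_apply]
    · intro A B C p q _ _ hp hq x x' e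
      rw [← map_map p q, ← map_map p q] at e
      exact hp (hq e)
  exact ⟨fun x x' => key (toBase A) A.res_surjective ((h0 y J).2.elim _ _)⟩

variable (i : Z ⟶ Y) [Z.Over (Spec (CommRingCat.of k))] (hz : i ≫ y = Z ↘ Spec (CommRingCat.of k))
  [IsClosedImmersion i] [DCoh.HasSheafHom (Omega.conormal i)]

theorem subsingleton_iff :
    (∀ A : Art k k, Subsingleton ((localHilb Y y i.ker).obj A)) ↔
      Subsingleton (Coh.HH Z ((DCoh.sheafHom (Omega.conormal i)).obj (Coh.structureModule Z)) 0) := by
  let e : (localHilb Y y i.ker).obj (dual k k) ≃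
      Coh.HH Z ((DCoh.sheafHom (Omega.conormal i)).obj (Coh.structureModule Z)) 0 :=
    (Equiv.ofBijective _ (tan_bijective y i)).trans (toH0 i).toEquiv
  exact ⟨fun h => (haveI := h (dual k k); e.symm.subsingleton), fun h A => subsingleton_obj y i.ker (haveI := h; e.subsingleton) A⟩

end Groth.Agent.TanHilbLib
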