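import Groth.Agent.ArtFunLib.Tangent
import Groth.Agent.ArtFunLib.FibreProd

/-! Fibres of a functor along semismall extensions are torsors under tangent vectors. -/

set_option autoImplicit false
set_option backward.isDefEq.respectTransparency false
set_option backward.isDefEq.respectTransparency.types false
set_option linter.style.haveILetI false

universe u v

open CategoryTheory ArtFun ArtFun.Art IsLocalRing
open scoped TensorProduct

noncomputable section

namespace Groth.Agent.TanHilbLib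

open ArtFunLib

variable {k : Type u} [Field k]

theorem mul_eq_res_smul {C' C : Art k k} {p : C' ⟶ C} (hp : IsSemismallExt p) (a : C')
    {x : C'} (hx : x ∈ RingHom.ker p.toAlgHom) : a * x = C'.res a • x := by
  have hm : a - algebraMap k C' (C'.res a) ∈ maximalIdeal C' := by
    rw [mem_maximalIdeal_iff, map_sub, AlgHom.commutes]
    exact sub_self _
  have h := Ideal.mul_mem_mul hm hx
  rw [hp.2, Ideal.mem_bot, sub_mul, sub_eq_zero] at h
  rw [h, Algebra.smul_def]

theorem exists_diff_en {C' C Q : Art k k} {p : C' ⟶ C} (hp : IsSemismallExt p) {n : ℕ}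
    (b : Module.Basis (Fin n) k (RingHom.ker p.toAlgHom))
    {p₁ p₂ : Q ⟶ C'} (hQ : IsFibreProd p₁ p₂ p p) :
    ∃ δ : Q ⟶ En k k n, IsFibreProd p₁ δ (toBase C') (toBase (En k k n)) := by
  have hd : ∀ z : Q, p₂ z - p₁ z ∈ RingHom.ker p.toAlgHom := fun z => by
    show p (p₂ z - p₁ z) = 0
    rw [map_sub, sub_eq_zero, hQ.w_apply]
  let d : Q → RingHom.ker p.toAlgHom := fun z => ⟨p₂ z - p₁ z, hd z⟩
  let e : RingHom.ker p.toAlgHom ≃ₗ[k] (Fin n → k) := b.equivFun
  have hmul : ∀ z w : Q, d (z * w) = Q.res z • d w + Q.res w • d z := fun z w => Subtype.ext (by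
    show p₂ (z * w) - p₁ (z * w) = Q.res z • (p₂ w - p₁ w) + Q.res w • (p₂ z - p₁ z)
    rw [← res_app p₁ z, ← res_app p₂ w, ← mul_eq_res_smul hp _ (hd w), ← mul_eq_res_smul hp _ (hd z), map_mul, map_mul]
    ring)
  let D : Q →ₐ[k] TrivSqZeroExt k (Fin n → k) :=
    { toFun := fun z => ((Q.res z, e (d z)) : TrivSqZeroExt k (Fin n → k))
      map_one' := TrivSqZeroExt.ext (map_one Q.res) (by
        show e (d 1) = 0
        rw [show d 1 = 0 from Subtype.ext (by show p₂ 1 - p₁ 1 = 0; rw [map_one, map_one, sub_self]), map_zero])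
      map_zero' := TrivSqZeroExt.ext (map_zero Q.res) (by
        show e (d 0) = 0
        rw [show d 0 = 0 from Subtype.ext (by show p₂ 0 - p₁ 0 = 0; rw [map_zero, map_zero, sub_self]), map_zero])
      map_add' := fun z w => TrivSqZeroExt.ext (map_add Q.res z w) (by
        show e (d (z + w)) = e (d z) + e (d w)
        rw [← map_add]
        exact congrArg e (Subtype.ext (by
          show p₂ (z + w) - p₁ (z + w) = (p₂ z - p₁ z) + (p₂ w - p₁ w)
          rw [map_add, map_add]; ring)))
      map_mul' := fun z w => TrivSqZeroExt.ext (map_mul Q.res z w) (by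
        show e (d (z * w)) = Q.res z • e (d w) + MulOpposite.op (Q.res w) • e (d z)
        rw [hmul, map_add, map_smul, map_smul, op_smul_eq_smul])
      commutes' := fun c => TrivSqZeroExt.ext (Q.res.commutes c) (by
        show e (d (algebraMap k Q c)) = 0
        rw [show d (algebraMap k Q c) = 0 from Subtype.ext (by
          show p₂ (algebraMap k Q c) - p₁ (algebraMap k Q c) = 0
          rw [AlgHom.commutes, AlgHom.commutes, sub_self]), map_zero]) }
  refine ⟨homMk (B := En k k n) D (AlgHom.ext fun z => rfl), ?_, fun z w h1 h2 => ?_, fun a c hac => ?_⟩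
  · rw [eq_toBase (p₁ ≫ toBase C'), eq_toBase (_ ≫ toBase (En k k n))]
  · refine hQ.inj z w h1 ?_
    have h3 : d z = d w := e.injective (congrArg TrivSqZeroExt.snd h2)
    have h4 : p₂ z - p₁ z = p₂ w - p₁ w := congrArg Subtype.val h3
    rw [h1, sub_left_inj] at h4
    exact h4
  · let x : RingHom.ker p.toAlgHom := e.symm (TrivSqZeroExt.snd (R := k) (M := Fin n → k) c)
    obtain ⟨z, h1, h2⟩ := hQ.surj a (a + (x : C')) (by
      rw [map_add, show p (x : C') = 0 from x.2, add_zero])
    refine ⟨z, h1, TrivSqZeroExt.ext ?_ ?_⟩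
    · show Q.res z = TrivSqZeroExt.fst c
      rw [← res_app p₁ z, h1]
      exact hac
    · show e (d z) = TrivSqZeroExt.snd c
      rw [show d z = x from Subtype.ext (by show p₂ z - p₁ z = x; rw [h1, h2, add_sub_cancel_left]), LinearEquiv.apply_symm_apply]

theorem nonempty_fibre_equiv {F : Art k k ⥤ Type v} (h0 : H0 F) (h2 : Heps F) (hrs : RS F)
    {C' C : Art k k} {p : C' ⟶ C} (hp : IsSemismallExt p) {I : F.obj C} (I₁ : F.obj C') (hI : F.map p I₁ = I)
    {n : ℕ} (b : Module.Basis (Fin n) k (RingHom.ker p.toAlgHom)) :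
    Nonempty ({I' : F.obj C' // F.map p I' = I} ≃ (Fin n → F.obj (dual k k))) := by
  obtain ⟨Q, p₁, p₂, hQ⟩ := exists_fibreProd p p hp.1
  obtain ⟨δ, hδ⟩ := exists_diff_en hp b hQ
  have hs : Function.Surjective (toBase (En k k n)) := fun c => ⟨TrivSqZeroExt.inl c, rfl⟩
  have hA := hrs _ _ _ _ hQ hp.1
  have hB := hrs _ _ _ _ hδ hs
  choose z hz1 hz2 using fun I' : {I' : F.obj C' // F.map p I' = I} =>
    (cmp_surjective_iff hQ).mp hA.2 I₁ I'.1 (hI.trans I'.2.symm)
  let ψ : {I' : F.obj C' // F.map p I' = I} → F.obj (En k k n) := fun I' => F.map δ (z I')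
  have hψ : Function.Bijective ψ := by
    refine ⟨fun I' I'' e => Subtype.ext ?_, fun w => ?_⟩
    · rw [← hz2 I', ← hz2 I'', (cmp_injective_iff hδ).mp hB.1 (z I') (z I'') ((hz1 I').trans (hz1 I'').symm) e]
    · obtain ⟨q, hq1, hq2⟩ := (cmp_surjective_iff hδ).mp hB.2 I₁ w (h0.2.elim _ _)
      let I' : {I' : F.obj C' // F.map p I' = I} := ⟨F.map p₂ q, by rw [map_map, ← hQ.w, ← map_map, hq1, hI]⟩
      refine ⟨I', ?_⟩
      show F.map δ (z I') = w
      rw [(cmp_injective_iff hQ).mp hA.1 (z I') q ((hz1 I').trans hq1.symm) (hz2 I'), hq2]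
  let φ : F.obj (En k k n) → (Fin n → F.obj (dual k k)) := fun w i => F.map (enProj i) w
  have hφ : Function.Bijective φ :=
    ⟨fun w w' e => (existsUnique_en h0 h2 n (φ w)).unique (fun i => rfl) (fun i => (congrFun e i).symm),
      fun θ => (existsUnique_en h0 h2 n θ).exists.elim fun w hw => ⟨w, funext hw⟩⟩
  exact ⟨(Equiv.ofBijective ψ hψ).trans (Equiv.ofBijective φ hφ)⟩

end Groth.Agent.TanHilbLib
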