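import Groth.Agent.LocHilbGlueLib.Alg
import Groth.Prelude.Def_ArtFun

/-! Ideals in `k[ε] ⊗ R`. -/

set_option autoImplicit false
set_option backward.isDefEq.respectTransparency false
set_option backward.isDefEq.respectTransparency.types false
set_option linter.style.haveILetI false

universe u

open CategoryTheory ArtFun ArtFun.Art IsLocalRing
open scoped TensorProduct

noncomputable section

namespace Groth.Agent.TanHilbLib

open LocHilbGlueLib

variable {k : Type u} [Field k] {R : Type u} [CommRing R] [Algebra k R]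

variable (R) in
/-- The reduction to the closed fibre. -/
def l0 (A : Art k k) : A ⊗[k] R →ₐ[k] R :=
  (Algebra.TensorProduct.lid k R).toAlgHom.comp (tmap R A.res)

theorem l0_tmul (A : Art k k) (a : A) (r : R) : l0 R A (a ⊗ₜ r) = A.res a • r := by
  simp [l0, tmap_tmul]

theorem l0_surjective (A : Art k k) : Function.Surjective (l0 R A) := fun r =>
  ⟨1 ⊗ₜ r, by rw [l0_tmul, map_one, one_smul]⟩

theorem l0_tmap {A B : Art k k} (g : A ⟶ B) (w : A ⊗[k] R) : l0 R B (tmap R g.toAlgHom w) = l0 R A w := by
  show Algebra.TensorProduct.lid k R (tmap R B.res (tmap R g.toAlgHom w)) = Algebra.TensorProduct.lid k R (tmap R A.res w)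
  rw [tmap_comp, g.res_comp]

theorem l0_eq_zero_of_mem (A : Art k k) {w : A ⊗[k] R} (h : w ∈ (maximalIdeal A • ⊤ : Submodule A (A ⊗[k] R))) :
    l0 R A w = 0 := by
  refine Submodule.smul_induction_on h (fun a ha y _ => ?_) (fun a b ha hb => by rw [map_add, ha, hb, add_zero])
  show Algebra.TensorProduct.lid k R (tmap R A.res (a • y)) = 0
  rw [tmap_smul, (mem_maximalIdeal_iff A a).1 ha, zero_smul, map_zero]

/-- The augmentation-compatible `ε`-coefficient. -/
def sndL : (dual k k).carrier →ₗ[k] k where
  toFun a := TrivSqZeroExt.snd (R := k) (M := k) a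
  map_add' _ _ := rfl
  map_smul' _ _ := rfl

variable (R) in
/-- The coefficient of `ε`. -/
def l1 : (dual k k).carrier ⊗[k] R →ₗ[k] R :=
  (TensorProduct.lid k R).toLinearMap.comp (sndL.rTensor R)

theorem l1_tmul (a : (dual k k).carrier) (r : R) : l1 R (a ⊗ₜ r) = sndL a • r := by
  simp [l1]

/-- The element `ε`. -/
def eps : (dual k k).carrier := (DualNumber.eps : DualNumber k)

theorem res_eps : (dual k k).res eps = (0 : k) := rfl

theorem sndL_eps : sndL (eps : (dual k k).carrier) = (1 : k) := rfl

theorem eq_res_sndL (a : (dual k k).carrier) :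
    a = algebraMap k (dual k k).carrier ((dual k k).res a) + sndL a • eps := by
  refine TrivSqZeroExt.ext (R := k) (M := k) ?_ ?_
  · show TrivSqZeroExt.fst (R := k) (M := k) a = TrivSqZeroExt.fst (R := k) (M := k) a + sndL a * 0
    rw [mul_zero, add_zero]
  · show TrivSqZeroExt.snd (R := k) (M := k) a = 0 + sndL a * 1
    rw [zero_add, mul_one]
    rfl

theorem decomp (w : (dual k k).carrier ⊗[k] R) : w = 1 ⊗ₜ l0 R (dual k k) w + eps ⊗ₜ l1 R w := by
  induction w using TensorProduct.induction_on with
  | zero => simp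
  | tmul a r =>
    rw [l0_tmul, l1_tmul, TensorProduct.tmul_smul, TensorProduct.tmul_smul, TensorProduct.smul_tmul',
      TensorProduct.smul_tmul', ← TensorProduct.add_tmul, ← Algebra.algebraMap_eq_smul_one, ← eq_res_sndL]
  | add a b ha hb =>
    rw [map_add, map_add, TensorProduct.tmul_add, TensorProduct.tmul_add, add_add_add_comm, ← ha, ← hb]

theorem l1_mul (v w : (dual k k).carrier ⊗[k] R) :
    l1 R (v * w) = l0 R (dual k k) v * l1 R w + l1 R v * l0 R (dual k k) w := by
  induction v using TensorProduct.induction_on with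
  | zero => simp
  | tmul a r =>
    induction w using TensorProduct.induction_on with
    | zero => simp
    | tmul b s =>
      have h : sndL (a * b) = (dual k k).res a * sndL b + sndL a * (dual k k).res b := by
        show TrivSqZeroExt.snd (R := k) (M := k) ((a : DualNumber k) * b) =
          TrivSqZeroExt.fst (R := k) (M := k) a * TrivSqZeroExt.snd b +
            TrivSqZeroExt.snd (R := k) (M := k) a * TrivSqZeroExt.fst b
        exact DualNumber.snd_mul (R := k) a b
      rw [Algebra.TensorProduct.tmul_mul_tmul, l1_tmul, l1_tmul, l1_tmul, l0_tmul, l0_tmul, h, add_smul,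
        mul_smul_mul_comm, mul_smul_mul_comm]
    | add x y hx hy => simp only [mul_add, map_add, hx, hy]; ring
  | add x y hx hy => simp only [add_mul, map_add, hx, hy]; ring

theorem eps_smul (w : (dual k k).carrier ⊗[k] R) : (eps (k := k)) • w = eps ⊗ₜ l0 R (dual k k) w := by
  induction w using TensorProduct.induction_on with
  | zero => simp
  | tmul a r =>
    rw [l0_tmul, TensorProduct.tmul_smul, TensorProduct.smul_tmul', TensorProduct.smul_tmul', smul_eq_mul]
    congr 1
    rw [Algebra.smul_def, mul_comm _ (eps : (dual k k).carrier)]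
    refine TrivSqZeroExt.ext (R := k) (M := k) ?_ ?_
    · show (0 : k) * TrivSqZeroExt.fst (R := k) (M := k) a = (0 : k) * TrivSqZeroExt.fst (R := k) (M := k) a
      rfl
    · show (0 : k) • TrivSqZeroExt.snd (R := k) (M := k) a +
          MulOpposite.op (TrivSqZeroExt.fst (R := k) (M := k) a) • (1 : k) =
        (0 : k) • (0 : k) + MulOpposite.op (TrivSqZeroExt.fst (R := k) (M := k) a) • (1 : k)
      rw [zero_smul, zero_smul]
  | add x y hx hy => rw [smul_add, hx, hy, map_add, TensorProduct.tmul_add]

theorem l0_eps_tmul (c : R) : l0 R (dual k k) (eps ⊗ₜ c) = 0 := by rw [l0_tmul, res_eps, zero_smul]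

theorem l1_eps_tmul (c : R) : l1 R (eps ⊗ₜ[k] c) = c := by rw [l1_tmul, sndL_eps, one_smul]

variable {J : Ideal ((dual k k).carrier ⊗[k] R)}

theorem eps_tmul_mem {c : R} (h : c ∈ J.map (l0 R (dual k k))) : eps ⊗ₜ[k] c ∈ J := by
  obtain ⟨w, hw, rfl⟩ := (Ideal.mem_map_iff_of_surjective (l0 R (dual k k)) (l0_surjective _)).1 h
  rw [← eps_smul]
  exact Submodule.smul_of_tower_mem J eps hw

theorem l1_mem_of_l0_eq_zero (hflat : Module.Flat (dual k k).carrier (((dual k k).carrier ⊗[k] R) ⧸ J))
    {w : (dual k k).carrier ⊗[k] R} (hw : w ∈ J) (h0 : l0 R (dual k k) w = 0) :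
    l1 R w ∈ J.map (l0 R (dual k k)) := by
  let mk : (dual k k).carrier ⊗[k] R →ₗ[(dual k k).carrier] _ ⧸ (J.restrictScalars (dual k k).carrier) :=
    (J.restrictScalars (dual k k).carrier).mkQ
  haveI : Module.Flat (dual k k).carrier (((dual k k).carrier ⊗[k] R) ⧸ (J.restrictScalars (dual k k).carrier)) := hflat
  have he : (eps : (dual k k).carrier) ≠ 0 := fun h => one_ne_zero (α := k) (by
    have := congrArg (sndL (k := k)) h
    rwa [sndL_eps, map_zero] at this)
  have hx : (eps (k := k)) • mk (1 ⊗ₜ l1 R w) = 0 := by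
    rw [← map_smul]
    refine (Submodule.Quotient.mk_eq_zero _).2 ?_
    rw [eps_smul, l0_tmul, map_one, one_smul]
    show eps ⊗ₜ l1 R w ∈ J
    have hd := decomp w
    rw [h0, TensorProduct.tmul_zero, zero_add] at hd
    rw [← hd]
    exact hw
  have h1 := HilbObsLib.mem_of_smul_eq_zero eps he hx
  rw [← Submodule.range_mkQ (J.restrictScalars (dual k k).carrier), ← Submodule.map_top, ← Submodule.map_smul''] at h1
  obtain ⟨v, hv, he'⟩ := h1
  have hJ : (1 : (dual k k).carrier) ⊗ₜ l1 R w - v ∈ J := (Submodule.Quotient.eq (J.restrictScalars (dual k k).carrier)).1 he'.symm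
  have := Ideal.mem_map_of_mem (l0 R (dual k k)) hJ
  rwa [map_sub, l0_eq_zero_of_mem _ hv, sub_zero, l0_tmul, map_one, one_smul] at this

theorem l1_scale (c : k) (w : (dual k k).carrier ⊗[k] R) : l1 R (tmap R (scale c).toAlgHom w) = c • l1 R w := by
  induction w using TensorProduct.induction_on with
  | zero => simp
  | tmul a r =>
    rw [tmap_tmul, l1_tmul, l1_tmul, smul_smul]
    rfl
  | add x y hx hy => simp only [map_add, hx, hy, smul_add]

theorem l1_plus (w : (dual2 k k).carrier ⊗[k] R) :
    l1 R (tmap R (plus (Λ := k) (k := k)).toAlgHom w) =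
      l1 R (tmap R (pr₁ (Λ := k) (k := k)).toAlgHom w) + l1 R (tmap R (pr₂ (Λ := k) (k := k)).toAlgHom w) := by
  induction w using TensorProduct.induction_on with
  | zero => simp
  | tmul a r =>
    rw [tmap_tmul, tmap_tmul, tmap_tmul, l1_tmul, l1_tmul, l1_tmul, ← add_smul]
    rfl
  | add x y hx hy => simp only [map_add, hx, hy]; abel

end Groth.Agent.TanHilbLib
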