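import Groth.Agent.TanHilbLib.Alg
import Groth.Agent.LocHilbGlueLib.Functor

/-! Restrictions and the closed fibre of the ideals in coordinates. -/

set_option autoImplicit false
set_option backward.isDefEq.respectTransparency false
set_option backward.isDefEq.respectTransparency.types false
set_option linter.style.haveILetI false

universe u

open CategoryTheory CategoryTheory.Limits AlgebraicGeometry ArtFun ArtFun.Art
open scoped TensorProduct

noncomputable section

namespace Groth.Agent.TanHilbLib

open LocHilbGlueLib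

variable {k : Type u} [Field k] {X : Scheme.{u}} (x : X ⟶ specPt k)

theorem algR_res {V V' : X.Opens} (h : V' ≤ V) : algR x V ≫ X.presheaf.map (homOfLE h).op = algR x V' := by
  simp [algR, Scheme.Hom.appLE_map]

/-- Restriction as a map of algebras. -/
def resA {V V' : X.Opens} (h : V' ≤ V) :
    letI := algV x V; letI := algV x V'
    Γ(X, V) →ₐ[k] Γ(X, V') :=
  letI := algV x V; letI := algV x V'
  { (X.presheaf.map (homOfLE h).op).hom with
    commutes' := fun c => congrArg (fun f : CommRingCat.of k ⟶ Γ(X, V') => f c) (algR_res x h) }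

/-- Restriction of coefficients-extended functions. -/
def resT (C : Art k k) {V V' : X.Opens} (h : V' ≤ V) :
    letI := algV x V; letI := algV x V'
    C ⊗[k] Γ(X, V) →ₐ[k] C ⊗[k] Γ(X, V') :=
  letI := algV x V; letI := algV x V'
  Algebra.TensorProduct.map (AlgHom.id k C) (resA x h)

theorem resT_tmul (C : Art k k) {V V' : X.Opens} (h : V' ≤ V) (c : C) (r : Γ(X, V)) :
    letI := algV x V; letI := algV x V'
    resT x C h (c ⊗ₜ r) = c ⊗ₜ X.presheaf.map (homOfLE h).op r := rfl

theorem l0_resT (C : Art k k) {V V' : X.Opens} (h : V' ≤ V) :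
    letI := algV x V; letI := algV x V'
    ∀ w : C ⊗[k] Γ(X, V), l0 Γ(X, V') C (resT x C h w) = X.presheaf.map (homOfLE h).op (l0 Γ(X, V) C w) := by
  letI := algV x V; letI := algV x V'
  intro w
  induction w using TensorProduct.induction_on with
  | zero => simp
  | tmul a r =>
    rw [resT_tmul, l0_tmul, l0_tmul]
    exact (map_smul (resA x h) _ _).symm
  | add a b ha hb => simp only [map_add, ha, hb]

theorem l1_resT {V V' : X.Opens} (h : V' ≤ V) :
    letI := algV x V; letI := algV x V'
    ∀ w : (dual k k).carrier ⊗[k] Γ(X, V),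
      l1 Γ(X, V') (resT x (dual k k) h w) = X.presheaf.map (homOfLE h).op (l1 Γ(X, V) w) := by
  letI := algV x V; letI := algV x V'
  intro w
  induction w using TensorProduct.induction_on with
  | zero => simp
  | tmul a r =>
    rw [resT_tmul, l1_tmul, l1_tmul]
    exact (map_smul (resA x h) _ _).symm
  | add a b ha hb => simp only [map_add, ha, hb]

theorem UA_mono (C : Art k k) {V V' : X.Opens} (h : V' ≤ V) : UA x C V' ≤ UA x C V :=
  (pullback.fst x (specOver C)).preimage_mono h

theorem theta_res (C : Art k k) {V V' : X.Opens} (hV : IsAffineOpen V) (hV' : IsAffineOpen V') (h : V' ≤ V) :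
    letI := algV x V; letI := algV x V'
    theta x C hV ≫ (XA x C).presheaf.map (homOfLE (UA_mono x C h)).op =
      CommRingCat.ofHom (resT x C h).toRingHom ≫ theta x C hV' := by
  letI := algV x V; letI := algV x V'
  refine (CommRingCat.isPushout_tensorProduct k C Γ(X, V)).hom_ext ?_ ?_
  · have h2 : CommRingCat.ofHom (Algebra.TensorProduct.includeLeftRingHom : C →+* C ⊗[k] Γ(X, V)) ≫
        CommRingCat.ofHom (resT x C h).toRingHom =
        CommRingCat.ofHom (Algebra.TensorProduct.includeLeftRingHom : C →+* C ⊗[k] Γ(X, V')) := by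
      ext c
      show resT x C h (c ⊗ₜ 1) = c ⊗ₜ 1
      rw [resT_tmul, map_one]
    rw [reassoc_of% (theta_left x C hV), reassoc_of% h2, theta_left]
    simp [cmap, Scheme.Hom.appLE_map]
  · have h2 : CommRingCat.ofHom (Algebra.TensorProduct.includeRight : Γ(X, V) →ₐ[k] C ⊗[k] Γ(X, V)).toRingHom ≫
        CommRingCat.ofHom (resT x C h).toRingHom = X.presheaf.map (homOfLE h).op ≫
        CommRingCat.ofHom (Algebra.TensorProduct.includeRight : Γ(X, V') →ₐ[k] C ⊗[k] Γ(X, V')).toRingHom := by
      ext r
      exact resT_tmul x C h 1 r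
    rw [reassoc_of% (theta_right x C hV), reassoc_of% h2, theta_right]
    simp [fR, Scheme.Hom.appLE_map, Scheme.Hom.map_appLE]

theorem resT_mem (C : Art k k) {V V' : X.Opens} (hV : IsAffineOpen V) (hV' : IsAffineOpen V') (h : V' ≤ V)
    (I : (XA x C).IdealSheafData) :
    letI := algV x V; letI := algV x V'
    ∀ w ∈ JV x C hV I, resT x C h w ∈ JV x C hV' I := by
  letI := algV x V; letI := algV x V'
  intro w hw
  show (theta x C hV') (resT x C h w) ∈ I.ideal ⟨_, isAffineOpen_UA x C hV'⟩
  have e : (theta x C hV') (resT x C h w) =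
      (XA x C).presheaf.map (homOfLE (UA_mono x C h)).op (theta x C hV w) :=
    (congrArg (fun f : CommRingCat.of (C ⊗[k] Γ(X, V)) ⟶ Γ(XA x C, UA x C V') => f w) (theta_res x C hV hV' h)).symm
  rw [e]
  exact I.ideal_le_comap_ideal (U := ⟨_, isAffineOpen_UA x C hV'⟩) (V := ⟨_, isAffineOpen_UA x C hV⟩)
    (UA_mono x C h) hw

theorem fst_XAincl : pullback.fst x (specOver (base k k)) ≫ XAincl x (base k k) = 𝟙 _ := by
  have hr : ofBase (base k k) = 𝟙 _ := Art.hom_ext (AlgHom.ext fun c => rfl)
  refine pullback.hom_ext ?_ ?_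
  · rw [Category.assoc, XAincl_fst, Category.comp_id, Category.id_comp]
  · rw [Category.assoc, XAincl_snd, Category.id_comp, comp_specRes_base, pullback.condition]
    show pullback.snd x _ ≫ specMap (ofBase (base k k)) = _
    rw [hr, specMap_id]
    exact Category.comp_id _

theorem map_l0_JV (C : Art k k) {I : (XA x C).IdealSheafData} {I₀ : X.IdealSheafData}
    (hI : I.comap (XAincl x C) = I₀) (V : X.affineOpens) :
    letI := algV x V.1
    (JV x C V.2 I).map (l0 Γ(X, V.1) C) = I₀.ideal V := by
  letI := algV x V.1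
  have hb : I.comap (XAmap x (toBase C)) = I₀.comap (pullback.fst x (specOver (base k k))) := by
    rw [← hI, ← Scheme.IdealSheafData.comap_comp, ← XAincl_XAmap x (toBase C), ← Category.assoc, fst_XAincl,
      Category.id_comp]
  have h1 : (JV x C V.2 I).map (tmap Γ(X, V.1) C.res) =
      (I₀.ideal V).map (Algebra.TensorProduct.includeRight : Γ(X, V.1) →ₐ[k] k ⊗[k] Γ(X, V.1)) := by
    have h2 := JV_comap x (toBase C) V.2 I
    rw [hb] at h2
    refine h2.symm.trans ?_
    show ((I₀.comap (pullback.fst x (specOver (base k k)))).ideal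
      ⟨_, isAffineOpen_UA x (base k k) V.2⟩).comap (theta x (base k k) V.2).hom = _
    rw [IdealStalkLib.comap_ideal I₀ (pullback.fst x (specOver (base k k))) V.2 (isAffineOpen_UA x (base k k) V.2) le_rfl]
    show (Ideal.map (fR x (base k k) V.1).hom _).comap _ = _
    rw [← theta_right x (base k k) V.2, CommRingCat.hom_comp, ← Ideal.map_map,
      Ideal.comap_map_of_bijective _ (theta_bijective x (base k k) V.2)]
    rfl
  show (JV x C V.2 I).map ((Algebra.TensorProduct.lid k Γ(X, V.1)).toAlgHom.comp (tmap Γ(X, V.1) C.res)) = _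
  rw [← Ideal.map_mapₐ, h1, Ideal.map_mapₐ]
  rw [show (Algebra.TensorProduct.lid k Γ(X, V.1)).toAlgHom.comp
      (Algebra.TensorProduct.includeRight : Γ(X, V.1) →ₐ[k] k ⊗[k] Γ(X, V.1)) = AlgHom.id k _ from
    AlgHom.ext fun r => by simp]
  exact Ideal.map_id _

end Groth.Agent.TanHilbLib
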