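import Groth.Agent.StalkHomLib.SectHom
import Groth.Agent.ModTensor.Sheaf
import Groth.Agent.ConormalLib.Chart

/-! Sections of the normal sheaf. -/

set_option autoImplicit false
set_option backward.isDefEq.respectTransparency false
set_option backward.isDefEq.respectTransparency.types false
set_option linter.style.haveILetI false

universe u

open CategoryTheory CategoryTheory.Limits AlgebraicGeometry TopologicalSpace Opposite

noncomputable section

namespace Groth.Agent.TanHilbLib

open Groth.Agent.DCohLib PullbackMod StalkHomLib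

variable {X : Scheme.{u}}

/-- The internal Hom of modules on a scheme. -/
theorem hasHom (F : X.Modules) : ModSite.HasSheafHom (O := X.sheaf) F := ModTensor.hasSheafHom (O := X.sheaf) F

theorem hom_sect_ext (F : X.Modules) [ModSite.HasSheafHom (O := X.sheaf) F] [Coh.IsQCoh F] (N : X.Modules)
    {W W' : X.Opens} (hW : IsAffineOpen W) (hle : W' ≤ W) {h h' : Γ((hF F).obj N, W')}
    (e : ∀ m : Γ(F, W), evS F N h (F.presheaf.map (homOfLE hle).op m) =
      evS F N h' (F.presheaf.map (homOfLE hle).op m)) : h = h' := by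
  refine sub_eq_zero.1 (sect_eq_zero F (h - h') fun y hy => LinearMap.ext fun φ => ?_)
  obtain ⟨u, m, hu, hum⟩ := exists_localGen F hW (hle hy) φ
  apply hu.smul_left_cancel.1
  rw [← map_smul, hum, LinearMap.zero_apply, smul_zero, ← TopCat.Presheaf.germ_res_apply F.presheaf (homOfLE hle) y hy m,
    theta_germ]
  show N.presheaf.germ W' y hy (evS F N (h - h') _) = 0
  rw [show evS F N (h - h') (F.presheaf.map (homOfLE hle).op m) = 0 from by
    have := evS_add_left F N (h - h') h' (F.presheaf.map (homOfLE hle).op m)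
    rw [sub_add_cancel, e m] at this
    exact add_eq_right.1 this.symm, map_zero]

variable {Z Y : Scheme.{u}} (i : Z ⟶ Y)

/-- The normal sheaf, as an internal Hom. -/
def normal : Z.Modules :=
  haveI := hasHom (Omega.conormal i)
  (hF (Omega.conormal i)).obj (Coh.structureModule Z)

/-- The class of a local section of the ideal. -/
def cls (V : Y.Opens) : Γ(ClSub.idealMod i.ker, V) →+ Γ(Omega.conormal i, i ⁻¹ᵁ V) :=
  pullMap i (ClSub.idealMod i.ker) (W := V) (W' := i ⁻¹ᵁ V) le_rfl

theorem cls_smul (V : Y.Opens) (r : Γ(Y, V)) (m : Γ(ClSub.idealMod i.ker, V)) :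
    cls i V (r • m) = i.app V r • cls i V m := by
  refine (pullMap_smul i (ClSub.idealMod i.ker) le_rfl r m).trans ?_
  rw [Scheme.Hom.app_eq_appLE]
  rfl

theorem cls_res {V V' : Y.Opens} (h : V' ≤ V) (m : Γ(ClSub.idealMod i.ker, V)) :
    (Omega.conormal i).presheaf.map (homOfLE (i.preimage_mono h)).op (cls i V m) =
      cls i V' ((ClSub.idealMod i.ker).presheaf.map (homOfLE h).op m) :=
  pullMap_res i (ClSub.idealMod i.ker) le_rfl h (i.preimage_mono h) le_rfl m

/-- The value of a normal vector on a local section of the ideal. -/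
def val {V : Y.Opens} (h : Γ(normal i, i ⁻¹ᵁ V)) (m : Γ(ClSub.idealMod i.ker, V)) : Γ(Z, i ⁻¹ᵁ V) :=
  haveI := hasHom (Omega.conormal i)
  OmegaSh.fnSect Z _ (evS (Omega.conormal i) (Coh.structureModule Z) h (cls i V m))

theorem val_add_left {V : Y.Opens} (h h' : Γ(normal i, i ⁻¹ᵁ V)) (m : Γ(ClSub.idealMod i.ker, V)) :
    val i (h + h') m = val i h m + val i h' m := by
  haveI := hasHom (Omega.conormal i)
  exact (congrArg (OmegaSh.fnSect Z _) (evS_add_left _ _ h h' (cls i V m))).trans (map_add _ _ _)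

theorem val_smul_left {V : Y.Opens} (r : Γ(Z, i ⁻¹ᵁ V)) (h : Γ(normal i, i ⁻¹ᵁ V))
    (m : Γ(ClSub.idealMod i.ker, V)) : val i (r • h) m = r * val i h m := by
  haveI := hasHom (Omega.conormal i)
  exact congrArg (OmegaSh.fnSect Z _) (evS_smul_left _ _ r h (cls i V m))

theorem val_res {V V' : Y.Opens} (h' : V' ≤ V) (h : Γ(normal i, i ⁻¹ᵁ V)) (m : Γ(ClSub.idealMod i.ker, V)) :
    val i ((normal i).presheaf.map (homOfLE (i.preimage_mono h')).op h) ((ClSub.idealMod i.ker).presheaf.map (homOfLE h').op m) =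
      Z.presheaf.map (homOfLE (i.preimage_mono h')).op (val i h m) := by
  haveI := hasHom (Omega.conormal i)
  show OmegaSh.fnSect Z _ _ = _
  rw [← cls_res i h' m]
  exact congrArg (OmegaSh.fnSect Z _)
    (evS_res (Omega.conormal i) (Coh.structureModule Z) (i.preimage_mono h') h (cls i V m)).symm

variable [IsClosedImmersion i] {V : Y.Opens} (hV : IsAffineOpen V)

include hV in
theorem chart : IsAffineOpen (i ⁻¹ᵁ V) ∧ Function.Surjective (i.app V) :=
  ⟨hV.preimage i, i.app_surjective V hV⟩

include hV in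
theorem cls_spec : Function.Surjective (cls i V) ∧ ∀ m, cls i V m = 0 ↔
    OmegaSh.idealSect i.ker V m ∈ RingHom.ker (i.app V).hom * RingHom.ker (i.app V).hom :=
  ConormalLib.cls_surjective_and_eq_zero_iff i hV (chart i hV).1 (chart i hV).2

instance isQCoh_conormal : Coh.IsQCoh (Omega.conormal i) := by
  haveI := OmegaAffLib.isQCoh_idealMod i.ker
  exact isQCoh_pullback i (ClSub.idealMod i.ker)

include hV in
/-- Normal vectors on part of a chart are determined by their values on the chart. -/
theorem normal_ext {W' : Z.Opens} (hle : W' ≤ i ⁻¹ᵁ V) {h h' : Γ(normal i, W')}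
    (e : haveI := hasHom (Omega.conormal i)
      ∀ m : Γ(ClSub.idealMod i.ker, V),
      evS (Omega.conormal i) (Coh.structureModule Z) h ((Omega.conormal i).presheaf.map (homOfLE hle).op (cls i V m)) =
        evS (Omega.conormal i) (Coh.structureModule Z) h' ((Omega.conormal i).presheaf.map (homOfLE hle).op (cls i V m))) :
    h = h' := by
  haveI := hasHom (Omega.conormal i)
  refine hom_sect_ext (Omega.conormal i) _ (chart i hV).1 hle fun c => ?_
  obtain ⟨m, rfl⟩ := (cls_spec i hV).1 c
  exact e m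

include hV in
theorem val_ext {h h' : Γ(normal i, i ⁻¹ᵁ V)} (e : ∀ m, val i h m = val i h' m) : h = h' := by
  haveI := hasHom (Omega.conormal i)
  refine psi_injective (Omega.conormal i) (Coh.structureModule Z) (chart i hV).1 (LinearMap.ext fun c => ?_)
  obtain ⟨m, rfl⟩ := (cls_spec i hV).1 c
  exact e m

include hV in
/-- A derivation-like function on the ideal comes from a normal vector. -/
theorem exists_val (f : Γ(ClSub.idealMod i.ker, V) →+ Γ(Z, i ⁻¹ᵁ V))
    (hsmul : ∀ r m, f (r • m) = i.app V r * f m)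
    (hzero : ∀ m, OmegaSh.idealSect i.ker V m ∈ RingHom.ker (i.app V).hom * RingHom.ker (i.app V).hom → f m = 0) :
    ∃ h : Γ(normal i, i ⁻¹ᵁ V), ∀ m, val i h m = f m := by
  haveI := hasHom (Omega.conormal i)
  obtain ⟨hsurj, hker⟩ := cls_spec i hV
  have hwd : ∀ m m', cls i V m = cls i V m' → f m = f m' := fun m m' e => by
    rw [← sub_eq_zero, ← map_sub]
    exact hzero _ ((hker _).1 (by rw [map_sub, e, sub_self]))
  choose s hs using hsurj
  let L : Γ(Omega.conormal i, i ⁻¹ᵁ V) →ₗ[Γ(Z, i ⁻¹ᵁ V)] Γ(Coh.structureModule Z, i ⁻¹ᵁ V) :=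
    { toFun := fun c => OmegaSh.strSect Z _ (f (s c))
      map_add' := fun a b => by
        rw [← map_add, ← map_add]
        exact congrArg _ (hwd _ _ (by rw [map_add, hs, hs, hs]))
      map_smul' := fun r c => by
        obtain ⟨r, rfl⟩ := (chart i hV).2 r
        show OmegaSh.strSect Z _ (f (s _)) = i.app V r * f (s c)
        rw [hwd _ (r • s c) (by rw [cls_smul, hs, hs]), hsmul]
        rfl }
  obtain ⟨h, hh⟩ := psi_surjective (Omega.conormal i) (Coh.structureModule Z) (chart i hV).1 L
  refine ⟨h, fun m => ?_⟩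
  show OmegaSh.fnSect Z _ (psi (Omega.conormal i) (Coh.structureModule Z) (i ⁻¹ᵁ V) h (cls i V m)) = _
  rw [hh]
  show f (s (cls i V m)) = f m
  exact hwd _ _ (hs _)

end Groth.Agent.TanHilbLib
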