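import Groth.Agent.TanHilbLib.Local
import Groth.Agent.TanHilbLib.Sect
import Groth.Agent.ArtFunLib.Tangent

/-! From first order deformations of a closed subscheme to normal vectors. -/

set_option autoImplicit false
set_option backward.isDefEq.respectTransparency false
set_option backward.isDefEq.respectTransparency.types false
set_option linter.style.haveILetI false

universe u

open CategoryTheory CategoryTheory.Limits AlgebraicGeometry TopologicalSpace Opposite ArtFun ArtFun.Art
open scoped TensorProduct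

noncomputable section

namespace Groth.Agent.TanHilbLib

open LocHilbGlueLib

variable {k : Type u} [Field k] {Y Z : Scheme.{u}} (y : Y ⟶ specPt k) (i : Z ⟶ Y)

/-- Restriction to the part over an open of the ambient scheme. -/
def resN (V : Y.Opens) (h : Γ(normal i, ⊤)) : Γ(normal i, i ⁻¹ᵁ V) :=
  (normal i).presheaf.map (homOfLE le_top).op h

theorem resN_res {V V' : Y.Opens} (hle : V' ≤ V) (h : Γ(normal i, ⊤)) :
    (normal i).presheaf.map (homOfLE (i.preimage_mono hle)).op (resN i V h) = resN i V' h := by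
  show ((normal i).presheaf.map _ ≫ (normal i).presheaf.map _) h = _
  rw [← Functor.map_comp]
  rfl

/-- The normal vector `h` describes the deformation `s`. -/
def IsTan (s : (localHilb Y y i.ker).obj (dual k k)) (h : Γ(normal i, ⊤)) : Prop :=
  ∀ (V : Y.Opens) (hV : IsAffineOpen V) (m : Γ(ClSub.idealMod i.ker, V)),
    letI := algV y V
    ∀ w ∈ JV y (dual k k) hV s.1, l0 Γ(Y, V) (dual k k) w = OmegaSh.idealSect i.ker V m →
      val i (resN i V h) m = i.app V (l1 Γ(Y, V) w)

variable [IsClosedImmersion i]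

theorem eq_of_val {h h' : Γ(normal i, ⊤)}
    (e : ∀ (V : Y.Opens), IsAffineOpen V → ∀ m, val i (resN i V h) m = val i (resN i V h') m) : h = h' := by
  refine TopCat.Sheaf.eq_of_locally_eq' ⟨(normal i).presheaf, (normal i).isSheaf⟩
    (fun V : Y.affineOpens => i ⁻¹ᵁ V.1) ⊤ (fun V => homOfLE le_top) (fun z _ => ?_) h h'
    fun V => val_ext i V.2 (e V.1 V.2)
  obtain ⟨_, ⟨V, hV, rfl⟩, hz, -⟩ := Y.isBasis_affineOpens.exists_subset_of_mem_open (Set.mem_univ (i z)) isOpen_univ
  exact Opens.mem_iSup.mpr ⟨⟨V, hV⟩, hz⟩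

variable (s : (localHilb Y y i.ker).obj (dual k k))

theorem map_l0_eq (C : Art k k) (t : (localHilb Y y i.ker).obj C) {V : Y.Opens} (hV : IsAffineOpen V) :
    letI := algV y V
    (JV y C hV t.1).map (l0 Γ(Y, V) C) = RingHom.ker (i.app V).hom := by
  letI := algV y V
  exact (map_l0_JV y C t.2.2 ⟨V, hV⟩).trans (Scheme.Hom.ker_apply i ⟨V, hV⟩)

theorem exists_lift_sect (C : Art k k) (t : (localHilb Y y i.ker).obj C) {V : Y.Opens} (hV : IsAffineOpen V)
    (m : Γ(ClSub.idealMod i.ker, V)) :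
    letI := algV y V
    ∃ w ∈ JV y C hV t.1, l0 Γ(Y, V) C w = OmegaSh.idealSect i.ker V m := by
  letI := algV y V
  refine (Ideal.mem_map_iff_of_surjective (l0 Γ(Y, V) C) (l0_surjective C)).1 ?_
  rw [map_l0_eq y i C t hV]
  exact ConormalLib.app_idealSect i V m

theorem app_l1_eq {V : Y.Opens} (hV : IsAffineOpen V) :
    letI := algV y V
    ∀ w ∈ JV y (dual k k) hV s.1, ∀ w' ∈ JV y (dual k k) hV s.1,
      l0 Γ(Y, V) (dual k k) w = l0 Γ(Y, V) (dual k k) w' → i.app V (l1 Γ(Y, V) w) = i.app V (l1 Γ(Y, V) w') := by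
  letI := algV y V
  intro w hw w' hw' e
  have h1 := l1_mem_of_l0_eq_zero ((flatOver_iff y (dual k k) s.1).1 s.2.1 V hV) (sub_mem hw hw')
    (by rw [map_sub, e, sub_self])
  rw [map_l0_eq y i (dual k k) s hV, RingHom.mem_ker, map_sub, map_sub, sub_eq_zero] at h1
  exact h1

theorem exists_local {V : Y.Opens} (hV : IsAffineOpen V) :
    ∃ h : Γ(normal i, i ⁻¹ᵁ V), ∀ m : Γ(ClSub.idealMod i.ker, V),
      letI := algV y V
      ∀ w ∈ JV y (dual k k) hV s.1, l0 Γ(Y, V) (dual k k) w = OmegaSh.idealSect i.ker V m →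
        val i h m = i.app V (l1 Γ(Y, V) w) := by
  letI := algV y V
  let J := JV y (dual k k) hV s.1
  have hlift := fun m => exists_lift_sect y i (dual k k) s hV m
  choose W hW hW0 using hlift
  have hval : ∀ m, ∀ w ∈ J, l0 Γ(Y, V) (dual k k) w = OmegaSh.idealSect i.ker V m →
      i.app V (l1 Γ(Y, V) (W m)) = i.app V (l1 Γ(Y, V) w) :=
    fun m w hw e => app_l1_eq y i s hV _ (hW m) w hw ((hW0 m).trans e.symm)
  let f : Γ(ClSub.idealMod i.ker, V) →+ Γ(Z, i ⁻¹ᵁ V) :=
    AddMonoidHom.mk' (fun m => i.app V (l1 Γ(Y, V) (W m))) fun m m' => by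
      rw [hval (m + m') _ (add_mem (hW m) (hW m')) (by rw [map_add, hW0, hW0, map_add]), map_add, map_add]
  suffices H : (∀ r m, f (r • m) = i.app V r * f m) ∧
      (∀ m, OmegaSh.idealSect i.ker V m ∈ RingHom.ker (i.app V).hom * RingHom.ker (i.app V).hom → f m = 0) by
    obtain ⟨h, hh⟩ := exists_val i hV f H.1 H.2
    exact ⟨h, fun m w hw e => (hh m).trans (hval m w hw e)⟩
  refine ⟨fun r m => ?_, fun m hm => ?_⟩
  · show i.app V _ = i.app V r * i.app V (l1 Γ(Y, V) (W m))
    rw [hval (r • m) (((1 : (dual k k).carrier) ⊗ₜ[k] r) * W m) (J.mul_mem_left _ (hW m))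
      (by rw [map_mul, l0_tmul, map_one, one_smul, hW0, OmegaAffLib.idealSect_smul]),
      l1_mul, l0_tmul, l1_tmul, map_one, one_smul, show sndL (1 : (dual k k).carrier) = (0 : k) from rfl, zero_smul,
      zero_mul, add_zero, map_mul]
  · have h2 : ∃ w ∈ J, l0 Γ(Y, V) (dual k k) w = OmegaSh.idealSect i.ker V m ∧ i.app V (l1 Γ(Y, V) w) = 0 := by
      refine Submodule.mul_induction_on hm (fun a ha b hb => ?_) (fun a b ha hb => ?_)
      · obtain ⟨ma, rfl⟩ := ConormalLib.exists_idealSect_eq i V a ha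
        obtain ⟨mb, rfl⟩ := ConormalLib.exists_idealSect_eq i V b hb
        refine ⟨W ma * W mb, J.mul_mem_left _ (hW mb), by rw [map_mul, hW0, hW0], ?_⟩
        rw [l1_mul, hW0, hW0, map_add, map_mul, map_mul, ConormalLib.app_idealSect, ConormalLib.app_idealSect, zero_mul,
          mul_zero, add_zero]
      · obtain ⟨wa, hwa, ea, za⟩ := ha
        obtain ⟨wb, hwb, eb, zb⟩ := hb
        exact ⟨wa + wb, add_mem hwa hwb, by rw [map_add, ea, eb], by rw [map_add, map_add, za, zb, add_zero]⟩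
    obtain ⟨w, hw, e, z⟩ := h2
    exact (hval m w hw e).trans z

theorem exists_isTan : ∃ h, IsTan y i s h := by
  haveI := hasHom (Omega.conormal i)
  choose H hH using fun V : Y.affineOpens => exists_local y i s V.2
  have hres : ∀ (V V' : Y.affineOpens) (hle : V'.1 ≤ V.1),
      (normal i).presheaf.map (homOfLE (i.preimage_mono hle)).op (H V) = H V' := by
    intro V V' hle
    letI := algV y V.1; letI := algV y V'.1
    refine normal_ext i V.2 (i.preimage_mono hle) fun m => ?_
    obtain ⟨w, hw, e⟩ := exists_lift_sect y i (dual k k) s V.2 m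
    have e' : l0 Γ(Y, V'.1) (dual k k) (resT y (dual k k) hle w) =
        OmegaSh.idealSect i.ker V'.1 ((ClSub.idealMod i.ker).presheaf.map (homOfLE hle).op m) := by
      rw [l0_resT, e, ConormalLib.idealSect_res]
    have h1 : val i (H V') ((ClSub.idealMod i.ker).presheaf.map (homOfLE hle).op m) =
        i.app V'.1 (l1 Γ(Y, V'.1) (resT y (dual k k) hle w)) :=
      hH V' _ _ (resT_mem y (dual k k) V.2 V'.2 hle s.1 w hw) e'
    have h2 : val i ((normal i).presheaf.map (homOfLE (i.preimage_mono hle)).op (H V))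
        ((ClSub.idealMod i.ker).presheaf.map (homOfLE hle).op m) =
          Z.presheaf.map (homOfLE (i.preimage_mono hle)).op (i.app V.1 (l1 Γ(Y, V.1) w)) := by
      rw [val_res, hH V m w hw e]
    rw [cls_res i hle m]
    refine h2.trans (Eq.trans ?_ h1.symm)
    rw [l1_resT]
    exact (congrArg (fun f : Γ(Y, V.1) ⟶ Γ(Z, i ⁻¹ᵁ V'.1) => f (l1 Γ(Y, V.1) w))
      (i.naturality (homOfLE hle).op)).symm
  obtain ⟨h, hh, -⟩ := TopCat.Sheaf.existsUnique_gluing' ⟨(normal i).presheaf, (normal i).isSheaf⟩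
    (fun V : Y.affineOpens => i ⁻¹ᵁ V.1) ⊤ (fun V => homOfLE le_top) (fun z _ => by
      obtain ⟨_, ⟨V, hV, rfl⟩, hz, -⟩ := Y.isBasis_affineOpens.exists_subset_of_mem_open (Set.mem_univ (i z)) isOpen_univ
      exact Opens.mem_iSup.mpr ⟨⟨V, hV⟩, hz⟩) H (fun V V' => by
      refine TopCat.Sheaf.eq_of_locally_eq' ⟨(normal i).presheaf, (normal i).isSheaf⟩
        (fun U : {U : Y.affineOpens // U.1 ≤ V.1 ⊓ V'.1} => i ⁻¹ᵁ U.1.1) _
        (fun U => homOfLE (show i ⁻¹ᵁ U.1.1 ≤ i ⁻¹ᵁ V.1 ⊓ i ⁻¹ᵁ V'.1 from fun z hz => U.2 hz)) (fun z hz => ?_) _ _ fun U => ?_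
      · obtain ⟨_, ⟨U, hU, rfl⟩, hzU, hle⟩ := Y.isBasis_affineOpens.exists_subset_of_mem_open
          (show i z ∈ (V.1 ⊓ V'.1 : Y.Opens) from hz) (V.1 ⊓ V'.1).2
        exact Opens.mem_iSup.mpr ⟨⟨⟨U, hU⟩, hle⟩, hzU⟩
      · show ((normal i).presheaf.map _ ≫ (normal i).presheaf.map _) (H V) =
          ((normal i).presheaf.map _ ≫ (normal i).presheaf.map _) (H V')
        rw [← Functor.map_comp, ← Functor.map_comp]
        exact (hres V U.1 (U.2.trans inf_le_left)).trans (hres V' U.1 (U.2.trans inf_le_right)).symm)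
  exact ⟨h, fun V hV m => by
    rw [show resN i V h = H ⟨V, hV⟩ from hh ⟨V, hV⟩]
    exact hH ⟨V, hV⟩ m⟩

/-- The normal vector of a first order deformation. -/
def tan : Γ(normal i, ⊤) := (exists_isTan y i s).choose

theorem isTan_tan : IsTan y i s (tan y i s) := (exists_isTan y i s).choose_spec

theorem tan_injective : Function.Injective (tan y i) := by
  have key : ∀ s t, tan y i s = tan y i t → ∀ (V : Y.Opens) (hV : IsAffineOpen V),
      letI := algV y V
      JV y (dual k k) hV s.1 ≤ JV y (dual k k) hV t.1 := by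
    intro s t e V hV
    letI := algV y V
    intro w hw
    have hI : l0 Γ(Y, V) (dual k k) w ∈ RingHom.ker (i.app V).hom := by
      rw [← map_l0_eq y i (dual k k) s hV]
      exact Ideal.mem_map_of_mem _ hw
    obtain ⟨m, hm⟩ := ConormalLib.exists_idealSect_eq i V _ hI
    obtain ⟨w', hw', e'⟩ := exists_lift_sect y i (dual k k) t hV m
    have h1 := isTan_tan y i s V hV m w hw hm.symm
    rw [e, isTan_tan y i t V hV m w' hw' e'] at h1
    have hc : l1 Γ(Y, V) (w - w') ∈ (JV y (dual k k) hV t.1).map (l0 Γ(Y, V) (dual k k)) := by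
      rw [map_l0_eq y i (dual k k) t hV, RingHom.mem_ker, map_sub, map_sub, sub_eq_zero]
      exact h1.symm
    have hd := decomp (w - w')
    rw [map_sub (l0 Γ(Y, V) (dual k k)), e', hm, sub_self, TensorProduct.tmul_zero, zero_add] at hd
    rw [← sub_add_cancel w w', hd]
    exact add_mem (eps_tmul_mem hc) hw'
  exact fun s t e => Subtype.ext (ext_JV y (dual k k) fun V hV => le_antisymm (key s t e V hV) (key t s e.symm V hV))

end Groth.Agent.TanHilbLib
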